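import Mathlib.AlgebraicGeometry.Morphisms.Etale
import Mathlib.RingTheory.Etale.Kaehler
import Mathlib.RingTheory.Smooth.StandardSmoothCotangent

/-!
# Smooth morphisms which are etale on a dense open
-/

set_option autoImplicit false
set_option linter.style.haveILetI false
set_option backward.isDefEq.respectTransparency.types false

universe u

open CategoryTheory Limits AlgebraicGeometry

namespace Groth.Agent.EtDense19

theorem etale_of_smooth_unramified {X Y : Scheme.{u}} (f : X ⟶ Y) [Smooth f] [FormallyUnramified f] : Etale f := by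
  refine HasRingHomProperty.iff_appLE (P := @Etale) |>.2 fun U V e => ?_
  have h1 := HasRingHomProperty.appLE (P := @Smooth) f ‹Smooth f› U V e
  have h2 := HasRingHomProperty.appLE (P := @FormallyUnramified) f ‹_› U V e
  algebraize [(f.appLE U.1 V.1 e).hom]
  haveI : Algebra.Smooth Γ(Y, U.1) Γ(X, V.1) := h1
  haveI : Algebra.FormallyUnramified Γ(Y, U.1) Γ(X, V.1) := h2
  haveI : Algebra.FormallyEtale Γ(Y, U.1) Γ(X, V.1) := Algebra.FormallyEtale.of_formallyUnramified_and_formallySmooth
  exact (⟨inferInstance, inferInstance⟩ : Algebra.Etale Γ(Y, U.1) Γ(X, V.1))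

/-- A standard smooth algebra which is unramified after inverting a non-nilpotent element is unramified. -/
theorem formallyUnramified_of_away {A B : Type u} [CommRing A] [CommRing B] [Algebra A B]
    [Algebra.IsStandardSmooth A B] (g : B) (hg : ¬ IsNilpotent g) (T : Type u) [CommRing T] [Algebra A T]
    [Algebra B T] [IsScalarTower A B T] [IsLocalization.Away g T] [Algebra.FormallyUnramified A T] :
    Algebra.FormallyUnramified A B := by
  haveI : Subsingleton Ω[T⁄A] := Algebra.FormallyUnramified.subsingleton_kaehlerDifferential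
  haveI : IsLocalizedModule (Submonoid.powers g) (KaehlerDifferential.map A A B T) :=
    KaehlerDifferential.isLocalizedModule_map A B T (Submonoid.powers g)
  let b := Module.Free.chooseBasis B Ω[B⁄A]
  haveI hI : IsEmpty (Module.Free.ChooseBasisIndex B Ω[B⁄A]) := ⟨fun i => by
    obtain ⟨⟨_, n, rfl⟩, hm⟩ := (IsLocalizedModule.eq_zero_iff (Submonoid.powers g)
      (KaehlerDifferential.map A A B T)).1 (Subsingleton.elim (KaehlerDifferential.map A A B T (b i)) 0)
    have h := congrArg (fun w => b.repr w i) hm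
    simp [Submonoid.smul_def] at h
    exact hg ⟨n, h⟩⟩
  exact ⟨b.repr.toEquiv.subsingleton⟩

/-- A smooth morphism which is etale on a dense open is etale. -/
theorem etale_of_smooth_of_dense {X Y : Scheme.{u}} (f : X ⟶ Y) [Smooth f] (D : X.Opens)
    (hD : Dense (D : Set X)) [Etale (D.ι ≫ f)] : Etale f := by
  suffices FormallyUnramified f from etale_of_smooth_unramified f
  choose U hU V hV hxV e hsm using Smooth.exists_isStandardSmooth f
  refine IsZariskiLocalAtSource.of_iSup_eq_top (P := @FormallyUnramified) V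
    (top_le_iff.1 fun x _ => TopologicalSpace.Opens.mem_iSup.2 ⟨x, hxV x⟩) fun x => ?_
  obtain ⟨y, hyV, hyD⟩ := hD.inter_open_nonempty _ (V x).2 ⟨x, hxV x⟩
  obtain ⟨g, hgD, hyg⟩ := (hV x).exists_basicOpen_le (V := V x ⊓ D) ⟨y, hyV, hyD⟩ hyV
  let W := X.basicOpen g
  have hW : IsAffineOpen W := (hV x).basicOpen g
  have hWV : W ≤ V x := X.basicOpen_le g
  have he : W ≤ f ⁻¹ᵁ U x := hWV.trans (e x)
  haveI : Etale (W.ι ≫ f) := by
    rw [← X.homOfLE_ι (hgD.trans inf_le_right : W ≤ D), Category.assoc]
    infer_instance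
  haveI : Etale (Spec.map (f.appLE (U x) W he) ≫ (hU x).fromSpec) := by
    rw [(hU x).SpecMap_appLE_fromSpec f hW he, ← hW.isoSpec_inv_ι, Category.assoc]
    infer_instance
  haveI : Etale (Spec.map (f.appLE (U x) W he)) := Etale.of_comp _ (hU x).fromSpec
  have het : (f.appLE (U x) W he).hom.Etale := (HasRingHomProperty.Spec_iff (P := @Etale)).1 ‹_›
  algebraize [(f.appLE (U x) (V x) (e x)).hom]
  haveI : Algebra.IsStandardSmooth Γ(Y, U x) Γ(X, V x) := hsm x
  letI : Algebra Γ(Y, U x) Γ(X, W) := (f.appLE (U x) W he).hom.toAlgebra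
  letI : Algebra Γ(X, V x) Γ(X, W) := (X.presheaf.map (homOfLE hWV).op).hom.toAlgebra
  haveI : IsScalarTower Γ(Y, U x) Γ(X, V x) Γ(X, W) := IsScalarTower.of_algebraMap_eq' (by
    show (f.appLE (U x) W he).hom = (X.presheaf.map (homOfLE hWV).op).hom.comp (f.appLE (U x) (V x) (e x)).hom
    rw [← CommRingCat.hom_comp, Scheme.Hom.appLE_map])
  haveI : IsLocalization.Away g Γ(X, W) := (hV x).isLocalization_basicOpen g
  haveI : Algebra.Etale Γ(Y, U x) Γ(X, W) := RingHom.etale_algebraMap.1 het
  have hun : Algebra.FormallyUnramified Γ(Y, U x) Γ(X, V x) := formallyUnramified_of_away g (fun hn => by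
    have h1 : IsUnit (X.presheaf.germ (V x) y hyV g) := (X.mem_basicOpen g y hyV).1 hyg
    obtain ⟨n, hn⟩ := hn.map (X.presheaf.germ (V x) y hyV).hom
    exact not_isUnit_zero (hn ▸ h1.pow n)) Γ(X, W)
  have h : FormallyUnramified (Spec.map (f.appLE (U x) (V x) (e x))) :=
    (HasRingHomProperty.Spec_iff (P := @FormallyUnramified)).2 hun
  rw [← (hV x).isoSpec_hom_fromSpec, Category.assoc, ← (hU x).SpecMap_appLE_fromSpec f (hV x) (e x)]
  have h2 : FormallyUnramified (Spec.map (f.appLE (U x) (V x) (e x)) ≫ (hU x).fromSpec) :=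
    MorphismProperty.comp_mem _ _ _ h inferInstance
  exact MorphismProperty.comp_mem _ _ _ inferInstance h2

end Groth.Agent.EtDense19
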